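import Mathlib
import Groth.Agent.Flat.DominateDvr

/-! A Noetherian normal local domain is the intersection of the DVRs dominating it;
quasi-finite birational local extensions of normal rings are trivial. -/

set_option autoImplicit false
universe u

open IsLocalRing
open scoped TensorProduct

namespace Groth.Agent.LeadNormalExt

/-- an element outside a Noetherian normal local domain fails to be in some dominating DVR -/
theorem exists_dvr_not_mem {A : Type u} [CommRing A] [IsDomain A] [IsLocalRing A] [IsNoetherianRing A]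
    [IsIntegrallyClosed A] (z : FractionRing A) (hz : z ∉ Set.range (algebraMap A (FractionRing A))) :
    ∃ (R : Type u) (_ : CommRing R) (_ : IsDomain R) (_ : IsDiscreteValuationRing R) (φ : A →+* R)
      (ι : FractionRing A →+* FractionRing R), Function.Injective φ ∧ IsLocalHom φ ∧
      (∀ a, ι (algebraMap A _ a) = algebraMap R _ (φ a)) ∧ ι z ∉ Set.range (algebraMap R (FractionRing R)) := by
  classical
  let K := FractionRing A
  have hinjA : Function.Injective (algebraMap A K) := IsFractionRing.injective A K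
  have hint : ¬ IsIntegral A z := fun h => hz (IsIntegrallyClosed.algebraMap_eq_of_integral h)
  have hz0 : z ≠ 0 := fun h => hint (h ▸ isIntegral_zero)
  obtain ⟨S, hSdef⟩ : ∃ S : Subalgebra A K, S = Algebra.adjoin A {z⁻¹} := ⟨_, rfl⟩
  have hzS : z⁻¹ ∈ S := hSdef ▸ Algebra.subset_adjoin rfl
  let w : S := ⟨z⁻¹, hzS⟩
  have hw : ¬ IsUnit w := by
    intro h
    obtain ⟨v, hv⟩ := h.exists_right_inv
    have hv' : z⁻¹ * (v : K) = 1 := congrArg Subtype.val hv
    have hzv : z = v := by rw [← mul_one z, ← hv', ← mul_assoc, mul_inv_cancel₀ hz0, one_mul]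
    obtain ⟨P, hP⟩ : ∃ P : Polynomial A, Polynomial.aeval z⁻¹ P = z := by
      have : z ∈ (Algebra.adjoin A {z⁻¹} : Subalgebra A K) := by rw [← hSdef, hzv]; exact v.2
      rw [Algebra.adjoin_singleton_eq_range_aeval] at this
      exact this
    apply hint
    -- `z ^ (n+1) = ∑ a_i z ^ (n - i)`
    refine ⟨Polynomial.X ^ (P.natDegree + 1) - P.reverse, Polynomial.monic_X_pow_sub ?_, ?_⟩
    · exact Polynomial.degree_le_natDegree.trans_lt (WithBot.coe_lt_coe.2
        (Nat.lt_succ_of_le P.reverse_natDegree_le))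
    · haveI : Invertible z := invertibleOfNonzero hz0
      have h2 := Polynomial.eval₂_reverse_mul_pow (algebraMap A K) z⁻¹ P
      haveI : Invertible z⁻¹ := invertibleOfNonzero (inv_ne_zero hz0)
      have h3 := Polynomial.eval₂_reverse_mul_pow (algebraMap A K) z⁻¹ P
      rw [invOf_eq_inv, inv_inv] at h3
      rw [Polynomial.eval₂_sub, Polynomial.eval₂_X_pow, sub_eq_zero]
      have h4 : Polynomial.eval₂ (algebraMap A K) z⁻¹ P = z := hP
      rw [h4] at h3
      rw [pow_succ]
      nth_rw 2 [← h3]
      rw [mul_comm _ (z⁻¹ ^ _), ← mul_assoc, ← mul_pow, mul_inv_cancel₀ hz0, one_pow, one_mul]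
  -- a prime over the maximal ideal containing `1/z`
  let J : Ideal S := Ideal.span {w} ⊔ (maximalIdeal A).map (algebraMap A S)
  have hJ : J ≠ ⊤ := by
    intro h
    have hsurj : Function.Surjective ((Ideal.Quotient.mk (Ideal.span {w})).comp (algebraMap A S)) := by
      intro q
      obtain ⟨⟨s, hs⟩, rfl⟩ := Ideal.Quotient.mk_surjective q
      subst hSdef
      induction hs using Algebra.adjoin_induction with
      | mem t ht =>
        obtain rfl : t = z⁻¹ := ht
        exact ⟨0, by rw [map_zero]; exact (Ideal.Quotient.mk_singleton_self w).symm⟩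
      | algebraMap r => exact ⟨r, rfl⟩
      | add a b ha hb iha ihb =>
        obtain ⟨a', ha'⟩ := iha
        obtain ⟨b', hb'⟩ := ihb
        exact ⟨a' + b', by rw [map_add, ha', hb', ← map_add]; rfl⟩
      | mul a b ha hb iha ihb =>
        obtain ⟨a', ha'⟩ := iha
        obtain ⟨b', hb'⟩ := ihb
        exact ⟨a' * b', by rw [map_mul, ha', hb', ← map_mul]; rfl⟩
    have h1 : (1 : S ⧸ Ideal.span {w}) ∈
        (maximalIdeal A).map ((Ideal.Quotient.mk (Ideal.span {w})).comp (algebraMap A S)) := by
      rw [← Ideal.map_map]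
      have : (1 : S) ∈ J := h ▸ trivial
      have h2 := Ideal.mem_map_of_mem (Ideal.Quotient.mk (Ideal.span {w})) this
      rwa [map_one, Ideal.map_sup, Ideal.map_quotient_self, bot_sup_eq] at h2
    obtain ⟨μ, hμ, hμ1⟩ := (Ideal.mem_map_iff_of_surjective _ hsurj).1 h1
    have hu : IsUnit (1 - μ) := by
      by_contra hc
      exact (maximalIdeal.isMaximal A).ne_top ((Ideal.eq_top_iff_one _).2
        (by simpa using add_mem ((mem_maximalIdeal _).2 hc) hμ))
    have h0 := hu.map ((Ideal.Quotient.mk (Ideal.span {w})).comp (algebraMap A S))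
    rw [map_sub, hμ1, map_one, sub_self] at h0
    have : (1 : S ⧸ Ideal.span {w}) = 0 :=
      haveI := isUnit_zero_iff.1 h0; this.symm
    rw [← map_one (Ideal.Quotient.mk (Ideal.span {w})), Ideal.Quotient.eq_zero_iff_mem,
      Ideal.mem_span_singleton] at this
    exact hw (isUnit_of_dvd_one this)
  obtain ⟨P, hPmax, hP⟩ := Ideal.exists_le_maximal J hJ
  haveI := hPmax.isPrime
  have hwP : w ∈ P := hP (le_sup_left (b := (maximalIdeal A).map (algebraMap A S))
    (Ideal.mem_span_singleton_self w))
  have hmP : (maximalIdeal A).map (algebraMap A S) ≤ P := le_sup_right.trans hP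
  haveI : IsNoetherianRing S := isNoetherianRing_of_fg (Subalgebra.fg_def.mpr ⟨_, Set.finite_singleton _, hSdef.symm⟩)
  let L := Localization.AtPrime P
  haveI : IsDomain L := IsLocalization.isDomain_localization P.primeCompl_le_nonZeroDivisors
  haveI : IsNoetherianRing L := IsLocalization.isNoetherianRing P.primeCompl L inferInstance
  have hSL : Function.Injective (algebraMap S L) := IsLocalization.injective L P.primeCompl_le_nonZeroDivisors
  have hw0 : w ≠ 0 := fun h => inv_ne_zero hz0 (congrArg Subtype.val h)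
  have hwL : algebraMap S L w ∈ maximalIdeal L := (IsLocalization.AtPrime.to_map_mem_maximal_iff L P w).2 hwP
  have hL : ¬ IsField L := fun hf => by
    rw [IsLocalRing.isField_iff_maximalIdeal_eq.mp hf, Ideal.mem_bot] at hwL
    exact hw0 (hSL (by rw [hwL, map_zero]))
  obtain ⟨R, _, _, hR, φ, hφ, hloc⟩ := Flat.DominateDvr.exists_dvr_dominating L hL
  let ψ : A →+* R := (φ.comp (algebraMap S L)).comp (algebraMap A S)
  have hASinj : Function.Injective (algebraMap A S) := fun a b h => hinjA (congrArg Subtype.val h)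
  have hψ : Function.Injective ψ := hφ.comp (hSL.comp hASinj)
  let ι : K →+* FractionRing R :=
    IsFractionRing.lift (g := (algebraMap R (FractionRing R)).comp ψ) ((IsFractionRing.injective R _).comp hψ)
  have hι : ∀ a, ι (algebraMap A K a) = algebraMap R _ (ψ a) := fun a => IsFractionRing.lift_algebraMap _ a
  refine ⟨R, inferInstance, inferInstance, hR, ψ, ι, hψ, ⟨fun a ha => ?_⟩, hι, ?_⟩
  · by_contra hu
    have h1 : algebraMap A S a ∈ P := hmP (Ideal.mem_map_of_mem _ ((mem_maximalIdeal _).2 hu))
    exact ((IsLocalization.AtPrime.to_map_mem_maximal_iff L P _).2 h1) (isUnit_of_map_unit φ _ ha)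
  · rintro ⟨r, hr⟩
    -- compare `ι` with the map on `S`
    have hS : ∀ s : S, ι (s : K) = algebraMap R _ (φ (algebraMap S L s)) := by
      intro s
      obtain ⟨a, b, hb, hab⟩ := IsFractionRing.div_surjective (A := A) (s : K)
      have hb0 : algebraMap A K b ≠ 0 := (map_ne_zero_iff _ hinjA).2 (nonZeroDivisors.ne_zero hb)
      have hsb : s * algebraMap A S b = algebraMap A S a := Subtype.ext (by
        show (s : K) * algebraMap A K b = algebraMap A K a
        rw [← hab, div_mul_cancel₀ _ hb0])
      apply mul_right_cancel₀ ((map_ne_zero_iff ι ι.injective).2 hb0)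
      rw [← map_mul ι, ← hab, div_mul_cancel₀ _ hb0, hι, hι, ← map_mul]
      congr 1
      show ψ a = φ (algebraMap S L s) * φ (algebraMap S L (algebraMap A S b))
      rw [← map_mul, ← map_mul, hsb]
      rfl
    have h1 : algebraMap R (FractionRing R) (r * φ (algebraMap S L w)) = 1 := by
      rw [map_mul, hr, ← hS]
      show ι z * ι z⁻¹ = 1
      rw [← map_mul, mul_inv_cancel₀ hz0, map_one]
    rw [← map_one (algebraMap R (FractionRing R))] at h1
    exact hwL (isUnit_of_map_unit φ _ (IsUnit.of_mul_eq_one r (by rw [mul_comm]; exact IsFractionRing.injective R _ h1)))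

/-- Zariski's main theorem for birational maps to a normal local ring. -/
theorem mem_range_of_quasiFinite {A : Type u} [CommRing A] [IsDomain A] [IsLocalRing A]
    [IsIntegrallyClosed A] {B : Type u} [CommRing B] [Algebra A B] [Algebra.QuasiFinite A B]
    [Algebra.FiniteType A B] (χ : B →ₐ[A] FractionRing A) (Q : Ideal B) [Q.IsPrime]
    (hker : RingHom.ker χ.toRingHom ≤ Q) (hQ : maximalIdeal A ≤ Q.comap (algebraMap A B)) (b : B) :
    χ b ∈ Set.range (algebraMap A (FractionRing A)) := by
  classical
  let K := FractionRing A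
  let q := Ideal.Quotient.mkₐ A (RingHom.ker χ.toRingHom)
  let B' := B ⧸ RingHom.ker χ.toRingHom
  haveI : Algebra.FiniteType A B' := Algebra.FiniteType.of_surjective q Ideal.Quotient.mk_surjective
  let Q' : Ideal B' := Q.map (Ideal.Quotient.mk _)
  haveI : Q'.IsPrime := Ideal.map_isPrime_of_surjective Ideal.Quotient.mk_surjective (by rwa [Ideal.mk_ker])
  haveI : Algebra.QuasiFiniteAt A Q' := inferInstance
  obtain ⟨r, hr, hrint, hrx⟩ :=
    Algebra.zariskisMainProperty_iff.1 (Algebra.ZariskisMainProperty.of_finiteType (R := A) Q')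
  let χ' : B' →ₐ[A] K := Ideal.Quotient.liftₐ (RingHom.ker χ.toRingHom) χ fun a ha => ha
  have hχ' : Function.Injective χ' := RingHom.kerLift_injective χ.toRingHom
  have hA : ∀ t : B', IsIntegral A t → ∃ a, t = algebraMap A B' a := by
    intro t ht
    obtain ⟨a, ha⟩ := IsIntegrallyClosed.algebraMap_eq_of_integral (ht.map χ')
    exact ⟨a, hχ' (by rw [← ha, AlgHom.commutes])⟩
  obtain ⟨a, rfl⟩ := hA r hrint
  obtain ⟨m, hm⟩ := hrx (Ideal.Quotient.mk _ b)
  have ha : IsUnit a := by
    by_contra hc
    exact hr (Ideal.mem_map_of_mem _ (hQ ((mem_maximalIdeal a).2 hc)))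
  obtain ⟨c, hc⟩ := hA _ hm
  have h1 : (algebraMap A K a) ^ m * χ b = algebraMap A K c := by
    have := congrArg χ' hc
    rw [map_mul, map_pow, AlgHom.commutes, AlgHom.commutes] at this
    exact this
  obtain ⟨v, hv⟩ := (ha.pow m).exists_left_inv
  refine ⟨v * c, ?_⟩
  rw [map_mul, ← h1, ← mul_assoc, ← map_pow, ← map_mul, hv, map_one, one_mul]

end Groth.Agent.LeadNormalExt
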