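import Groth.Agent.Lead.NormalExt.Scheme

/-! A rational map is defined at a normal point with an isolated point in the graph fibre. -/

set_option autoImplicit false
universe u

open IsLocalRing CategoryTheory CategoryTheory.Limits AlgebraicGeometry
open scoped TensorProduct

namespace Groth.Agent.LeadNormalExt

/-- Zariski's main theorem for birational maps to a normal local ring, one point in the fibre. -/
theorem mem_range_of_unique {A : Type u} [CommRing A] [IsDomain A] [IsLocalRing A]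
    [IsIntegrallyClosed A] {B : Type u} [CommRing B] [Algebra A B]
    [Algebra.FiniteType A B] (χ : B →ₐ[A] FractionRing A) (Q : Ideal B) [Q.IsPrime]
    (hker : RingHom.ker χ.toRingHom ≤ Q) (hQ : Q.comap (algebraMap A B) = maximalIdeal A)
    (huniq : ∀ P : Ideal B, P.IsPrime → RingHom.ker χ.toRingHom ≤ P → P.comap (algebraMap A B) = maximalIdeal A → P = Q)
    (b : B) : χ b ∈ Set.range (algebraMap A (FractionRing A)) := by
  let K := FractionRing A
  let B' := B ⧸ RingHom.ker χ.toRingHom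
  haveI : Algebra.FiniteType A B' :=
    Algebra.FiniteType.of_surjective (Ideal.Quotient.mkₐ A (RingHom.ker χ.toRingHom)) Ideal.Quotient.mk_surjective
  let Q' : Ideal B' := Q.map (Ideal.Quotient.mk _)
  haveI : Q'.IsPrime := Ideal.map_isPrime_of_surjective Ideal.Quotient.mk_surjective (by rwa [Ideal.mk_ker])
  have hQ'Q : Q'.comap (Ideal.Quotient.mk _) = Q := by
    rw [Ideal.comap_map_of_surjective _ Ideal.Quotient.mk_surjective, ← RingHom.ker_eq_comap_bot, Ideal.mk_ker]
    exact sup_eq_left.2 hker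
  have hover : Q'.comap (algebraMap A B') = maximalIdeal A := by
    rw [← hQ, ← hQ'Q, Ideal.comap_comap]; rfl
  haveI hsub : Subsingleton ↥(PrimeSpectrum.comap (algebraMap A B') ⁻¹'
      {(⟨Q', inferInstance⟩ : PrimeSpectrum B').comap (algebraMap A B')}) := by
    refine ⟨fun ⟨P₁, h₁⟩ ⟨P₂, h₂⟩ => ?_⟩
    have key : ∀ P : PrimeSpectrum B', PrimeSpectrum.comap (algebraMap A B') P =
        (⟨Q', inferInstance⟩ : PrimeSpectrum B').comap (algebraMap A B') → P.asIdeal.comap (Ideal.Quotient.mk _) = Q := by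
      intro P hP
      refine huniq _ inferInstance (fun t ht => ?_) ?_
      · show Ideal.Quotient.mk _ t ∈ P.asIdeal
        rw [Ideal.Quotient.eq_zero_iff_mem.2 ht]
        exact zero_mem _
      · rw [← hover, Ideal.comap_comap]
        exact congrArg PrimeSpectrum.asIdeal hP
    exact Subtype.ext (PrimeSpectrum.ext (Ideal.comap_injective_of_surjective _ Ideal.Quotient.mk_surjective
      ((key P₁ h₁).trans (key P₂ h₂).symm)))
  haveI : Algebra.QuasiFiniteAt A Q' :=
    Algebra.QuasiFiniteAt.of_isOpen_singleton_fiber (⟨Q', inferInstance⟩ : PrimeSpectrum B') (isOpen_discrete _)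
  obtain ⟨r, hr, hrint, hrx⟩ :=
    Algebra.zariskisMainProperty_iff.1 (Algebra.ZariskisMainProperty.of_finiteType (R := A) Q')
  let χ' : B' →ₐ[A] K := Ideal.Quotient.liftₐ (RingHom.ker χ.toRingHom) χ fun a ha => ha
  have hχ' : Function.Injective χ' := RingHom.kerLift_injective χ.toRingHom
  have hA : ∀ t : B', IsIntegral A t → ∃ a, t = algebraMap A B' a := by
    intro t ht
    obtain ⟨a, ha⟩ := IsIntegrallyClosed.algebraMap_eq_of_integral (ht.map χ')
    exact ⟨a, hχ' (by rw [← ha, AlgHom.commutes])⟩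
  obtain ⟨a, rfl⟩ := hA r hrint
  obtain ⟨m, hm⟩ := hrx (Ideal.Quotient.mk _ b)
  have ha : IsUnit a := by
    by_contra hc
    have : a ∈ Q'.comap (algebraMap A B') := hover ▸ (mem_maximalIdeal a).2 hc
    exact hr this
  obtain ⟨c, hc⟩ := hA _ hm
  have h1 : (algebraMap A K a) ^ m * χ b = algebraMap A K c := by
    have := congrArg χ' hc
    rw [map_mul, map_pow, AlgHom.commutes, AlgHom.commutes] at this
    exact this
  obtain ⟨v, hv⟩ := (ha.pow m).exists_left_inv
  refine ⟨v * c, ?_⟩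
  rw [map_mul, ← h1, ← mul_assoc, ← map_pow, ← map_mul, hv, map_one, one_mul]

/-- the algebra behind the statement -/
theorem range_le_of_unique {R A B : Type u} [CommRing R] [CommRing A] [IsDomain A] [IsLocalRing A] [IsIntegrallyClosed A]
    [CommRing B] [Algebra R A] [Algebra R B] [Algebra.FiniteType R B] (p : Ideal R) [p.IsPrime]
    [IsLocalization.AtPrime A p] (χ : B →ₐ[R] FractionRing A) (q : Ideal B) [q.IsPrime]
    (hqp : q.comap (algebraMap R B) = p) (hker : RingHom.ker χ.toRingHom ≤ q)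
    (huniq : ∀ P : Ideal B, P.IsPrime → RingHom.ker χ.toRingHom ≤ P → P.comap (algebraMap R B) = p → P = q)
    (b : B) : χ b ∈ Set.range (algebraMap A (FractionRing A)) := by
  let K := FractionRing A
  let L := Localization.AtPrime q
  have hu : ∀ t : q.primeCompl, IsUnit (χ t) := fun t =>
    isUnit_iff_ne_zero.2 fun h => t.2 (hker h)
  let ψ : L →+* K := IsLocalization.lift (g := χ.toRingHom) hu
  let ρ : A →+* L := IsLocalization.lift (M := p.primeCompl) (g := (algebraMap B L).comp (algebraMap R B))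
    (fun t => IsLocalization.map_units (M := q.primeCompl) L ⟨algebraMap R B t, fun h => t.2 (hqp ▸ h : _)⟩)
  letI : Algebra A L := ρ.toAlgebra
  haveI : IsScalarTower R A L := IsScalarTower.of_algebraMap_eq fun r => by
    show algebraMap R L r = ρ (algebraMap R A r)
    rw [IsLocalization.lift_eq]
    exact IsScalarTower.algebraMap_apply R B L r
  let g : B →ₐ[R] L := IsScalarTower.toAlgHom R B L
  let θ : A ⊗[R] B →ₐ[A] L := Algebra.TensorProduct.lift (Algebra.ofId A L) g fun _ _ => Commute.all _ _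
  have hψρ : ∀ a, ψ (ρ a) = algebraMap A K a := by
    intro a
    refine congrFun (congrArg DFunLike.coe (IsLocalization.ringHom_ext p.primeCompl
      (j := ψ.comp ρ) (k := algebraMap A K) ?_)) a
    ext r
    show ψ (ρ (algebraMap R A r)) = algebraMap A K (algebraMap R A r)
    rw [IsLocalization.lift_eq, ← IsScalarTower.algebraMap_apply R A K]
    show ψ (algebraMap B L (algebraMap R B r)) = _
    rw [IsLocalization.lift_eq]
    exact χ.commutes r
  let χB : A ⊗[R] B →ₐ[A] K := { ψ.comp θ.toRingHom with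
    commutes' := fun a => by
      show ψ (θ (algebraMap A _ a)) = _
      rw [θ.commutes]; exact hψρ a }
  let Q : Ideal (A ⊗[R] B) := (maximalIdeal L).comap θ.toRingHom
  have hloc : ∀ t : A ⊗[R] B, ∃ s ∉ p, ∃ c : B, algebraMap A _ (algebraMap R A s) * t = 1 ⊗ₜ c := by
    intro t
    induction t using TensorProduct.induction_on with
    | zero => exact ⟨1, p.one_notMem, 0, by simp⟩
    | tmul a c =>
      obtain ⟨⟨r, s⟩, hrs⟩ := IsLocalization.surj p.primeCompl a
      refine ⟨s, s.2, r • c, ?_⟩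
      rw [TensorProduct.tmul_smul, TensorProduct.smul_tmul', Algebra.smul_def, mul_one]
      show (algebraMap R A s.1 ⊗ₜ[R] (1 : B)) * (a ⊗ₜ c) = _
      rw [Algebra.TensorProduct.tmul_mul_tmul, one_mul, mul_comm, hrs]
    | add t t' ht ht' =>
      obtain ⟨s, hs, c, hc⟩ := ht
      obtain ⟨s', hs', c', hc'⟩ := ht'
      refine ⟨s * s', fun h => (‹p.IsPrime›.mem_or_mem h).elim hs hs', algebraMap R B s' * c + algebraMap R B s * c', ?_⟩
      have e : ∀ (r : R) (c : B), algebraMap A (A ⊗[R] B) (algebraMap R A r) * (1 ⊗ₜ c) = 1 ⊗ₜ (algebraMap R B r * c) := by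
        intro r c
        rw [← Algebra.smul_def, algebraMap_smul, ← TensorProduct.tmul_smul, Algebra.smul_def]
      rw [map_mul, map_mul, TensorProduct.tmul_add, ← e, ← e, ← hc, ← hc']
      ring
  have hθ : ∀ c : B, θ (1 ⊗ₜ c) = algebraMap B L c := fun c => by
    simp [θ, g]
  have hχB : ∀ c : B, χB (1 ⊗ₜ c) = χ c := fun c => by
    show ψ (θ (1 ⊗ₜ c)) = _
    rw [hθ]; exact IsLocalization.lift_eq _ c
  have hρm : ∀ r, r ∈ p ↔ algebraMap R A r ∈ maximalIdeal A := fun r =>
    (IsLocalization.AtPrime.to_map_mem_maximal_iff A p r).symm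
  have hQm : Q.comap (algebraMap A _) = maximalIdeal A := by
    ext a
    show θ (algebraMap A _ a) ∈ maximalIdeal L ↔ _
    rw [θ.commutes]
    obtain ⟨r, s, rfl⟩ := IsLocalization.exists_mk'_eq p.primeCompl a
    rw [show algebraMap A L (IsLocalization.mk' A r s) = IsLocalization.mk' L (algebraMap R B r)
      (⟨algebraMap R B s.1, fun h => s.2 (hqp ▸ h : _)⟩ : q.primeCompl) from ?_,
      IsLocalization.AtPrime.mk'_mem_maximal_iff L q, IsLocalization.AtPrime.mk'_mem_maximal_iff A p]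
    · exact (Iff.of_eq (congrArg (r ∈ ·) hqp) :)
    · rw [IsLocalization.eq_mk'_iff_mul_eq, ← IsScalarTower.algebraMap_apply R B L,
        IsScalarTower.algebraMap_apply R A L, ← map_mul, IsLocalization.mk'_spec, ← IsScalarTower.algebraMap_apply R A L,
        IsScalarTower.algebraMap_apply R B L]
  obtain ⟨a, ha⟩ := mem_range_of_unique χB Q (fun t ht => by
      by_contra hc
      have hu' := ((IsLocalRing.notMem_maximalIdeal).1 hc).map ψ
      rw [show ψ (θ.toRingHom t) = 0 from ht] at hu'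
      exact not_isUnit_zero hu')
    hQm (fun P hP hPk hPm => by
      haveI := hP
      have hPq : P.comap (Algebra.TensorProduct.includeRight : B →ₐ[R] A ⊗[R] B).toRingHom = q := by
        refine huniq _ inferInstance (fun c hc => hPk (show χB (1 ⊗ₜ c) = 0 by rw [hχB]; exact hc)) ?_
        ext r
        rw [hρm r, ← hPm]
        show (1 : A) ⊗ₜ[R] algebraMap R B r ∈ P ↔ algebraMap R A r ⊗ₜ[R] (1 : B) ∈ P
        rw [Algebra.algebraMap_eq_smul_one, TensorProduct.tmul_smul, TensorProduct.smul_tmul', ← Algebra.algebraMap_eq_smul_one]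
      ext t
      obtain ⟨s, hs, c, hc⟩ := hloc t
      have hs' : algebraMap A (A ⊗[R] B) (algebraMap R A s) ∉ P := fun h => hs ((hρm s).2 (hPm ▸ h : _))
      have hs'' : algebraMap A (A ⊗[R] B) (algebraMap R A s) ∉ Q := fun h => hs ((hρm s).2 (hQm ▸ h : _))
      calc t ∈ P ↔ (1 : A) ⊗ₜ[R] c ∈ P :=
            hc ▸ ⟨fun h => P.mul_mem_left _ h, fun h => (hP.mem_or_mem h).resolve_left hs'⟩
        _ ↔ c ∈ q := by rw [← hPq]; rfl
        _ ↔ (1 : A) ⊗ₜ[R] c ∈ Q := by
            show _ ↔ θ (1 ⊗ₜ c) ∈ maximalIdeal L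
            rw [hθ, IsLocalization.AtPrime.to_map_mem_maximal_iff L q]
        _ ↔ t ∈ Q := hc ▸ ⟨fun h => (Ideal.IsPrime.mem_or_mem inferInstance h).resolve_left hs'', fun h => Q.mul_mem_left _ h⟩)
    (1 ⊗ₜ b)
  exact ⟨a, ha.trans (hχB b)⟩

variable {X Y S : Scheme.{u}}

theorem isDomain_stalk_of_mem {W : X.Opens} [IsIntegral (W : Scheme.{u})] (x : X) (hx : x ∈ W) :
    IsDomain (X.presheaf.stalk x) := by
  haveI : IsDomain ((W : Scheme.{u}).presheaf.stalk ⟨x, hx⟩) := inferInstance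
  exact (W.stalkIso ⟨x, hx⟩).symm.commRingCatIsoToRingEquiv.toMulEquiv.isDomain _

theorem extends_of_isolated (pX : X ⟶ S) (pY : Y ⟶ S)
    [LocallyOfFiniteType pY] [IsSeparated pY] (hX : ∀ y : ↥X, ∃ W : X.Opens, y ∈ W ∧ IsIntegral (W : Scheme.{u}))
    (U : X.Opens) (hU : Dense (U : Set ↥X)) (h : (U : Scheme.{u}) ⟶ Y) (hh : U.ι ≫ pX = h ≫ pY)
    (x : ↥X) (hx : IsIntegrallyClosed (X.presheaf.stalk x))
    (z : ↥(pullback pX pY)) (hz : pullback.fst pX pY z = x)
    (hzΓ : z ∈ closure (Set.range (pullback.lift U.ι h hh)))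
    (O : (pullback pX pY).Opens) (hO : (O : Set ↥(pullback pX pY)) ∩ closure (Set.range (pullback.lift U.ι h hh)) ∩
      (pullback.fst pX pY) ⁻¹' {x} = {z}) :
    ∃ (V : X.Opens) (v : (V : Scheme.{u}) ⟶ Y), x ∈ V ∧ v ≫ pY = V.ι ≫ pX ∧
      X.homOfLE (inf_le_right : U ⊓ V ≤ V) ≫ v = X.homOfLE (inf_le_left : U ⊓ V ≤ U) ≫ h := by
  let q := pullback.fst pX pY
  let s := pullback.lift U.ι h hh
  obtain ⟨W₀, hxW₀, hW₀⟩ := hX x
  obtain ⟨W, hW, hxW, hWle⟩ : ∃ W : X.Opens, IsAffineOpen W ∧ x ∈ W ∧ W ≤ W₀ := by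
    obtain ⟨_, ⟨W, hW, rfl⟩, hxW, hWle⟩ := X.isBasis_affineOpens.exists_subset_of_mem_open hxW₀ W₀.2
    exact ⟨W, hW, hxW, hWle⟩
  haveI : Nonempty (W : Scheme.{u}) := ⟨⟨x, hxW⟩⟩
  haveI : IsIntegral (W : Scheme.{u}) := isIntegral_of_isOpenImmersion (X.homOfLE hWle)
  haveI : IsDomain (X.presheaf.stalk x) := isDomain_stalk_of_mem x hxW
  let A := X.presheaf.stalk x
  let K := FractionRing A
  let g : X := X.fromSpecStalk x (⟨⊥, Ideal.isPrime_bot⟩ : PrimeSpectrum A)
  have hgW : ∀ y ∈ W, g ⤳ y := by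
    intro y hy
    have h1 : (W.ι (genericPoint ↥W.toScheme)) ⤳ x := (genericPoint_specializes (α := W.toScheme) ⟨x, hxW⟩).map W.ι.continuous
    obtain ⟨P, hP⟩ := mem_range_fromSpecStalk x h1
    exact ((bot_specializes A P).map (X.fromSpecStalk x).continuous).trans
      (hP ▸ (genericPoint_specializes (α := W.toScheme) ⟨y, hy⟩).map W.ι.continuous)
  have hgU : g ∈ U := by
    obtain ⟨y, h1, h2⟩ := hU.inter_open_nonempty W W.2 ⟨x, hxW⟩
    exact (hgW y h1).mem_open U.2 h2
  let j : Spec (.of K) ⟶ X := Spec.map (CommRingCat.ofHom (algebraMap A K)) ≫ X.fromSpecStalk x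
  have hj : ∀ t, j t = g := fun t => by
    show X.fromSpecStalk x _ = X.fromSpecStalk x _
    congr 1
    refine PrimeSpectrum.ext ?_
    show Ideal.comap (algebraMap _ _) (t : PrimeSpectrum K).asIdeal = ⊥
    rw [Ideal.eq_bot_of_prime (t : PrimeSpectrum K).asIdeal, ← RingHom.ker_eq_comap_bot]
    exact (RingHom.injective_iff_ker_eq_bot _).1 (IsFractionRing.injective _ _)
  let gK : Spec (.of K) ⟶ (U : Scheme.{u}) := IsOpenImmersion.lift U.ι j (by
    rintro _ ⟨t, rfl⟩; rw [Scheme.Opens.range_ι, hj]; exact hgU)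
  have hgK : gK ≫ U.ι = j := IsOpenImmersion.lift_fac _ _ _
  let m := gK ≫ s
  have hmq : m ≫ q = j := by
    simp only [m, s, q, Category.assoc]
    rw [pullback.lift_fst, hgK]
  obtain ⟨V, hV, hzV, hVle⟩ : ∃ V : (pullback pX pY).Opens, IsAffineOpen V ∧ z ∈ V ∧ V ≤ O ⊓ q ⁻¹ᵁ W := by
    obtain ⟨_, ⟨V, hV, rfl⟩, hzV, hVle⟩ := (pullback pX pY).isBasis_affineOpens.exists_subset_of_mem_open
      (show z ∈ O ⊓ q ⁻¹ᵁ W from ⟨(hO.ge (Set.mem_singleton z)).1.1, show q z ∈ W by rw [show q z = x from hz]; exact hxW⟩)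
      (O ⊓ q ⁻¹ᵁ W).2
    exact ⟨V, hV, hzV, hVle⟩
  have hVW : V ≤ q ⁻¹ᵁ W := fun t ht => (hVle ht).2
  have hspec : m (IsLocalRing.closedPoint K) ⤳ z := by
    refine specializes_iff_forall_open.2 fun O' hO'o hzO' => ?_
    obtain ⟨_, ⟨hO', htW⟩, u, rfl⟩ := mem_closure_iff.1 hzΓ (O' ∩ (q ⁻¹ᵁ W : Set _))
      (hO'o.inter (q ⁻¹ᵁ W).2) ⟨hzO', hVW hzV⟩
    have huW : U.ι u ∈ W := by
      have : q (s u) ∈ W := htW
      rwa [← Scheme.Hom.comp_apply, show s ≫ q = U.ι from pullback.lift_fst _ _ _] at this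
    have hgu : gK (IsLocalRing.closedPoint K) ⤳ u := by
      rw [← U.ι.isOpenEmbedding.isInducing.specializes_iff, ← Scheme.Hom.comp_apply, hgK, hj]
      exact hgW _ huW
    exact (hgu.map s.continuous).mem_open hO'o hO'
  obtain ⟨χ, hχ⟩ := exists_factor m hV (hspec.mem_open V.2 hzV)
  let μ := X.presheaf.germ W x hxW
  have hjW : j = Spec.map (μ ≫ CommRingCat.ofHom (algebraMap A K)) ≫ hW.fromSpec := by
    rw [Spec.map_comp, Category.assoc]
    exact congrArg (Spec.map _ ≫ ·) (hW.fromSpecStalk_eq_fromSpecStalk hxW).symm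
  have hχR : q.appLE W V hVW ≫ χ = μ ≫ CommRingCat.ofHom (algebraMap A K) := by
    rw [← comp_ring q hW hV hVW, ← Category.assoc, hχ, hmq, hjW]
  letI : Algebra Γ(X, W) Γ(pullback pX pY, V) := (q.appLE W V hVW).hom.toAlgebra
  letI : Algebra Γ(X, W) A := μ.hom.toAlgebra
  haveI : Algebra.FiniteType Γ(X, W) Γ(pullback pX pY, V) := q.finiteType_appLE hW hV hVW
  let p := (hW.primeIdealOf ⟨x, hxW⟩).asIdeal
  haveI : IsLocalization.AtPrime A p := hW.isLocalization_stalk ⟨x, hxW⟩
  let χ' : Γ(pullback pX pY, V) →ₐ[Γ(X, W)] K :=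
    { χ.hom with commutes' := fun r => (congrArg (fun φ => φ.hom r) hχR : _) }
  let qz := (hV.primeIdealOf ⟨z, hzV⟩).asIdeal
  have hpt : ∀ P : PrimeSpectrum Γ(pullback pX pY, V),
      q (hV.fromSpec P) = hW.fromSpec (PrimeSpectrum.comap (q.appLE W V hVW).hom P) := fun P => by
    rw [← Scheme.Hom.comp_apply, ← IsAffineOpen.SpecMap_appLE_fromSpec q hW hV hVW]
    rfl
  have hfW : Function.Injective hW.fromSpec := hW.fromSpec.isOpenEmbedding.injective
  have hfV : Function.Injective hV.fromSpec := hV.fromSpec.isOpenEmbedding.injective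
  have hqp : qz.comap (algebraMap Γ(X, W) Γ(pullback pX pY, V)) = p := by
    refine congrArg PrimeSpectrum.asIdeal (hfW (a₁ := PrimeSpectrum.comap (q.appLE W V hVW).hom (hV.primeIdealOf ⟨z, hzV⟩))
      (a₂ := hW.primeIdealOf ⟨x, hxW⟩) ?_)
    rw [← hpt, hV.fromSpec_primeIdealOf, hW.fromSpec_primeIdealOf]
    exact hz
  have hker : ∀ P : PrimeSpectrum Γ(pullback pX pY, V),
      RingHom.ker χ.hom ≤ P.asIdeal ↔ m (IsLocalRing.closedPoint K) ⤳ hV.fromSpec P := by
    intro P
    rw [← hχ, Scheme.Hom.comp_apply, hV.fromSpec.isOpenEmbedding.isInducing.specializes_iff]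
    refine Iff.trans ?_ (PrimeSpectrum.le_iff_specializes _ _)
    show RingHom.ker χ.hom ≤ P.asIdeal ↔ Ideal.comap χ.hom (IsLocalRing.maximalIdeal K) ≤ P.asIdeal
    rw [IsLocalRing.maximalIdeal_eq_bot, ← RingHom.ker_eq_comap_bot]
  have hrange : ∀ c, χ c ∈ Set.range (algebraMap A K) := by
    refine fun c => range_le_of_unique (A := A) p χ' qz hqp ((hker _).2 ?_) (fun P hP hPk hPp => ?_) c
    · rw [hV.fromSpec_primeIdealOf]; exact hspec
    · have hPV : hV.fromSpec ⟨P, hP⟩ ∈ V := by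
        rw [← SetLike.mem_coe, ← hV.range_fromSpec]; exact ⟨_, rfl⟩
      have : hV.fromSpec ⟨P, hP⟩ ∈ ({z} : Set _) := by
        rw [← hO]
        refine ⟨⟨(hVle hPV).1, ((hker ⟨P, hP⟩).1 hPk).mem_closed isClosed_closure (subset_closure ⟨_, rfl⟩)⟩, ?_⟩
        show q _ = x
        rw [hpt]
        exact (congrArg hW.fromSpec (PrimeSpectrum.ext hPp)).trans (hW.fromSpec_primeIdealOf ⟨x, hxW⟩)
      exact congrArg PrimeSpectrum.asIdeal (hfV (this.trans (hV.fromSpec_primeIdealOf ⟨z, hzV⟩).symm))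
  -- spread out
  choose a ha using hrange
  obtain ⟨G, hG⟩ := Algebra.FiniteType.out (R := Γ(X, W)) (A := Γ(pullback pX pY, V))
  obtain ⟨d, hd⟩ := IsLocalization.exist_integer_multiples p.primeCompl G (fun c => a c)
  let W' := X.basicOpen d.1
  have hW' : IsAffineOpen W' := hW.basicOpen d.1
  have hW'W : W' ≤ W := X.basicOpen_le d.1
  haveI : IsLocalization.Away d.1 Γ(X, W') := hW.isLocalization_basicOpen d.1
  have hxW' : x ∈ W' := by
    rw [X.mem_basicOpen d.1 x hxW]
    exact IsLocalization.map_units A d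
  let ν := X.presheaf.germ W' x hxW'
  have hνμ : ∀ r, ν (algebraMap Γ(X, W) Γ(X, W') r) = μ r := fun r =>
    X.presheaf.germ_res_apply (homOfLE hW'W) x hxW' r
  have hνinj : Function.Injective ν.hom := by
    rw [injective_iff_map_eq_zero]
    intro e he
    obtain ⟨⟨r, n⟩, hrn⟩ := IsLocalization.surj (Submonoid.powers d.1) e
    have hμr : μ r = 0 := by rw [← hνμ, ← hrn, map_mul, show ν e = 0 from he, zero_mul]
    have hr : r = 0 := by
      haveI : IsDomain Γ(X, W) := W.topIso.symm.commRingCatIsoToRingEquiv.toMulEquiv.isDomain _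
      exact IsLocalization.injective A p.primeCompl_le_nonZeroDivisors (hμr.trans (map_zero _).symm)
    simp only [hr, map_zero] at hrn
    exact (IsLocalization.map_units Γ(X, W') n).mul_left_eq_zero.1 hrn
  let M : Subalgebra Γ(X, W) Γ(pullback pX pY, V) :=
    { carrier := {c | ∃ e : Γ(X, W'), algebraMap A K (ν e) = χ c}
      one_mem' := ⟨1, by simp⟩
      zero_mem' := ⟨0, by simp⟩
      mul_mem' := fun {c c'} ⟨e, he⟩ ⟨e', he'⟩ => ⟨e * e', by simp [he, he']⟩
      add_mem' := fun {c c'} ⟨e, he⟩ ⟨e', he'⟩ => ⟨e + e', by simp [he, he']⟩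
      algebraMap_mem' := fun r => ⟨algebraMap _ _ r, by
        rw [hνμ]; exact (congrArg (fun φ => φ.hom r) hχR :).symm⟩ }
  have hM : ∀ c, c ∈ M := by
    intro c
    have : Algebra.adjoin Γ(X, W) (G : Set Γ(pullback pX pY, V)) ≤ M := Algebra.adjoin_le fun c hc => by
      obtain ⟨r, hr⟩ := hd c hc
      obtain ⟨v, hv⟩ := (IsLocalization.Away.algebraMap_isUnit (S := Γ(X, W')) d.1).exists_left_inv
      refine ⟨v * algebraMap Γ(X, W) Γ(X, W') r, ?_⟩
      rw [← ha c]
      congr 1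
      refine (IsLocalization.map_units A d).mul_right_cancel ?_
      rw [map_mul, hνμ]
      show ν v * algebraMap Γ(X, W) A r * μ d.1 = a c * algebraMap Γ(X, W) A d.1
      rw [mul_right_comm, ← hνμ d.1, ← map_mul, hv, map_one, one_mul, hr, Algebra.smul_def, mul_comm]
    exact this (hG ▸ trivial)
  choose e he using hM
  have hinjK : Function.Injective (fun e => algebraMap A K (ν e)) :=
    (IsFractionRing.injective A K).comp hνinj
  let χW : Γ(pullback pX pY, V) →+* Γ(X, W') :=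
    { toFun := e
      map_one' := hinjK (by simp [he])
      map_zero' := hinjK (by simp [he])
      map_mul' := fun c c' => hinjK (by simp [he])
      map_add' := fun c c' => hinjK (by simp [he]) }
  let w : (W' : Scheme.{u}) ⟶ pullback pX pY := hW'.isoSpec.hom ≫ Spec.map (CommRingCat.ofHom χW) ≫ hV.fromSpec
  have hwq : w ≫ q = W'.ι := by
    have h1 : Spec.map (CommRingCat.ofHom χW) ≫ hV.fromSpec ≫ q =
        Spec.map (X.presheaf.map (homOfLE hW'W).op) ≫ hW.fromSpec := by
      rw [comp_ring q hW hV hVW]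
      ext r
      refine hinjK ((he _).trans ?_)
      exact ((congrArg (fun φ => φ.hom r) hχR :).trans (congrArg (algebraMap A K) (hνμ r).symm) :)
    rw [hW.map_fromSpec hW'] at h1
    simp only [w, Category.assoc, h1, IsAffineOpen.isoSpec_hom_fromSpec]
  refine ⟨W', w ≫ pullback.snd pX pY, hxW', ?_, ?_⟩
  · rw [Category.assoc, ← pullback.condition, ← Category.assoc, show w ≫ pullback.fst pX pY = W'.ι from hwq]
  have hgW' : g ∈ W' := ((bot_specializes A (IsLocalRing.closedPoint A)).map (X.fromSpecStalk x).continuous).mem_open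
    W'.2 (by rw [Scheme.fromSpecStalk_closedPoint]; exact hxW')
  let gK' : Spec (.of K) ⟶ ((U ⊓ W' : X.Opens) : Scheme.{u}) := IsOpenImmersion.lift (U ⊓ W').ι j (by
    rintro _ ⟨t, rfl⟩; rw [Scheme.Opens.range_ι, hj]; exact ⟨hgU, hgW'⟩)
  have hgK' : gK' ≫ (U ⊓ W').ι = j := IsOpenImmersion.lift_fac _ _ _
  haveI : IsReduced ((U ⊓ W' : X.Opens) : Scheme.{u}) :=
    isReduced_of_isOpenImmersion (X.homOfLE ((inf_le_right : U ⊓ W' ≤ W').trans hW'W))
  haveI : IsDominant gK' := ⟨fun y => by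
    have : gK' (IsLocalRing.closedPoint K) ⤳ y := by
      rw [← (U ⊓ W').ι.isOpenEmbedding.isInducing.specializes_iff, ← Scheme.Hom.comp_apply, hgK', hj]
      exact hgW _ (hW'W y.2.2)
    exact this.mem_closed isClosed_closure (subset_closure ⟨_, rfl⟩)⟩
  refine ext_of_isDominant_of_isSeparated pY ?_ gK' ?_
  · simp only [Category.assoc]
    rw [← pullback.condition, show w ≫ pullback.fst pX pY ≫ pX = W'.ι ≫ pX from by rw [← Category.assoc, show w ≫ pullback.fst pX pY = W'.ι from hwq],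
      ← hh, Scheme.homOfLE_ι_assoc, Scheme.homOfLE_ι_assoc]
  · have h1 : gK' ≫ X.homOfLE (inf_le_left : U ⊓ W' ≤ U) = gK := by
      rw [← cancel_mono U.ι, Category.assoc, Scheme.homOfLE_ι, hgK', hgK]
    have h2 : gK' ≫ X.homOfLE (inf_le_right : U ⊓ W' ≤ W') ≫ w = m := by
      have hμν : gK' ≫ X.homOfLE (inf_le_right : U ⊓ W' ≤ W') ≫ hW'.isoSpec.hom =
          Spec.map (ν ≫ CommRingCat.ofHom (algebraMap A K)) := by
        rw [← cancel_mono hW'.fromSpec, Category.assoc, Category.assoc, IsAffineOpen.isoSpec_hom_fromSpec,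
          Scheme.homOfLE_ι, hgK', Spec.map_comp, Category.assoc]
        exact congrArg (Spec.map _ ≫ ·) (hW'.fromSpecStalk_eq_fromSpecStalk hxW').symm
      simp only [w]
      rw [← Category.assoc (X.homOfLE _), ← Category.assoc gK', hμν, ← Category.assoc, ← Spec.map_comp, ← hχ]
      congr 2
      ext c
      exact he c
    rw [← Category.assoc, ← Category.assoc, Category.assoc gK', h2]
    simp only [m, s, Category.assoc, pullback.lift_snd]
    rw [← Category.assoc, h1]

end Groth.Agent.LeadNormalExt
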