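import Groth.Agent.Lead.NormalExt.Isolated
import Mathlib.AlgebraicGeometry.Morphisms.UniversallyOpen

/-! Definedness of a rational map on a normal scheme descends along universally open maps. -/

set_option autoImplicit false
universe u

open IsLocalRing CategoryTheory CategoryTheory.Limits AlgebraicGeometry

namespace Groth.Agent.LeadNormalExt

variable {X X' Y S : Scheme.{u}}

theorem extends_of_extends_universallyOpen (pX : X ⟶ S) (pY : Y ⟶ S)
    [LocallyOfFiniteType pY] [IsSeparated pY] (hX : ∀ y : ↥X, ∃ W : X.Opens, y ∈ W ∧ IsIntegral (W : Scheme.{u}))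
    (U : X.Opens) (hU : Dense (U : Set ↥X)) (h : (U : Scheme.{u}) ⟶ Y) (hh : h ≫ pY = U.ι ≫ pX)
    (f : X' ⟶ X) [UniversallyOpen f] (x' : ↥X') (hx : IsIntegrallyClosed (X.presheaf.stalk (f x')))
    (V' : X'.Opens) (v' : (V' : Scheme.{u}) ⟶ Y) (hx' : x' ∈ V') (hv' : v' ≫ pY = V'.ι ≫ f ≫ pX)
    (hag : X'.homOfLE (inf_le_right : f ⁻¹ᵁ U ⊓ V' ≤ V') ≫ v' =
          X'.homOfLE (inf_le_left : f ⁻¹ᵁ U ⊓ V' ≤ f ⁻¹ᵁ U) ≫ (f ∣_ U) ≫ h) :
    ∃ (V : X.Opens) (v : (V : Scheme.{u}) ⟶ Y), f x' ∈ V ∧ v ≫ pY = V.ι ≫ pX ∧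
      X.homOfLE (inf_le_right : U ⊓ V ≤ V) ≫ v = X.homOfLE (inf_le_left : U ⊓ V ≤ U) ≫ h := by
  let q := pullback.fst pX pY
  let s := pullback.lift U.ι h hh.symm
  let a := pullback.fst f q
  let b := pullback.snd f q
  haveI : UniversallyOpen b := MorphismProperty.pullback_snd _ _ inferInstance
  let g : (V' : Scheme.{u}) ⟶ pullback pX pY :=
    pullback.lift (V'.ι ≫ f) v' (by rw [Category.assoc, hv'])
  let σ : (V' : Scheme.{u}) ⟶ pullback f q :=
    pullback.lift V'.ι g (by rw [pullback.lift_fst])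
  have hσa : σ ≫ a = V'.ι := pullback.lift_fst _ _ _
  have hσb : σ ≫ b = g := pullback.lift_snd _ _ _
  -- `σ` has closed range over `V'`
  let P := a ⁻¹ᵁ V'
  have hσP : ∀ y, σ y ∈ P := fun y => by
    show a (σ y) ∈ V'
    rw [← Scheme.Hom.comp_apply, hσa]
    exact y.2
  let σP : (V' : Scheme.{u}) ⟶ (P : Scheme.{u}) := IsOpenImmersion.lift P.ι σ (by
    rintro _ ⟨y, rfl⟩; rw [Scheme.Opens.range_ι]; exact hσP y)
  have hσPι : σP ≫ P.ι = σ := IsOpenImmersion.lift_fac _ _ _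
  haveI : IsSeparated q := MorphismProperty.pullback_fst _ _ inferInstance
  haveI : IsSeparated a := MorphismProperty.pullback_fst _ _ inferInstance
  haveI : IsClosedImmersion σP := by
    have e : σP ≫ (a ∣_ V') = 𝟙 _ := by
      rw [← cancel_mono V'.ι, Category.assoc, morphismRestrict_ι, ← Category.assoc, hσPι, hσa, Category.id_comp]
    haveI : IsClosedImmersion (σP ≫ (a ∣_ V')) := by rw [e]; infer_instance
    exact IsClosedImmersion.of_comp σP (a ∣_ V')
  have key : ∀ t : ↥(pullback f q), a t = x' → b t ∈ closure (Set.range s) → b t = g ⟨x', hx'⟩ := by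
    intro t hat hbt
    have htP : t ∈ P := by show a t ∈ V'; rw [hat]; exact hx'
    have hcl : t ∈ closure (Set.range σ) := by
      refine mem_closure_iff.2 fun O hO htO => ?_
      obtain ⟨_, ⟨t', ⟨ht'O, ht'P⟩, rfl⟩, u₀, hu₀⟩ := mem_closure_iff.1 hbt (b '' (O ∩ (P : Set _)))
        (b.isOpenMap _ (hO.inter P.2)) ⟨t, ⟨htO, htP⟩, rfl⟩
      refine ⟨t', ht'O, ?_⟩
      obtain ⟨r, hr1, hr2⟩ := Scheme.Pullback.exists_preimage_pullback (f := b) (g := s) t' u₀ hu₀.symm
      let R₁ := pullback.fst b s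
      let R₂ := pullback.snd b s
      let R' : (pullback b s).Opens := (R₁ ≫ a) ⁻¹ᵁ V'
      have hr : r ∈ R' := by show a (R₁ r) ∈ V'; rw [hr1]; exact ht'P
      let k : (R' : Scheme.{u}) ⟶ (V' : Scheme.{u}) := IsOpenImmersion.lift V'.ι (R'.ι ≫ R₁ ≫ a) (by
        rintro _ ⟨y, rfl⟩; rw [Scheme.Opens.range_ι]; exact y.2)
      have hk : k ≫ V'.ι = R'.ι ≫ R₁ ≫ a := IsOpenImmersion.lift_fac _ _ _
      have hU2 : R'.ι ≫ R₂ ≫ U.ι = k ≫ V'.ι ≫ f := by
        have hsq : s ≫ q = U.ι := pullback.lift_fst _ _ _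
        rw [← Category.assoc k, hk, ← hsq, ← Category.assoc R₂, ← pullback.condition (f := b) (g := s)]
        simp only [Category.assoc, a, b]
        rw [pullback.condition (f := f) (g := q)]
      have hrange : Set.range k ⊆ Set.range (X'.homOfLE (inf_le_right : f ⁻¹ᵁ U ⊓ V' ≤ V')) := by
        rintro _ ⟨y, rfl⟩
        refine ⟨⟨(k y).1, ?_, (k y).2⟩, V'.ι.isOpenEmbedding.injective ?_⟩
        · show (V'.ι ≫ f) (k y) ∈ U
          rw [← Scheme.Hom.comp_apply, ← hU2, ← Category.assoc]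
          exact ((R'.ι ≫ R₂) y).2
        · rw [← Scheme.Hom.comp_apply, Scheme.homOfLE_ι]
          rfl
      let k' := IsOpenImmersion.lift (X'.homOfLE (inf_le_right : f ⁻¹ᵁ U ⊓ V' ≤ V')) k hrange
      have hk' : k' ≫ X'.homOfLE (inf_le_right : f ⁻¹ᵁ U ⊓ V' ≤ V') = k := IsOpenImmersion.lift_fac _ _ _
      have hfac : R'.ι ≫ R₁ = k ≫ σ := by
        apply pullback.hom_ext
        · rw [Category.assoc, Category.assoc, hσa, hk]
        · rw [Category.assoc, Category.assoc, hσb, pullback.condition (f := b) (g := s)]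
          apply pullback.hom_ext
          · simp only [Category.assoc, s, g, pullback.lift_fst]
            exact hU2
          · simp only [Category.assoc, s, g, pullback.lift_snd]
            rw [← hk', Category.assoc, hag]
            simp only [← Category.assoc]
            congr 1
            rw [← cancel_mono U.ι]
            simp only [Category.assoc, morphismRestrict_ι, Scheme.homOfLE_ι_assoc]
            rw [hU2, ← hk', Category.assoc, Scheme.homOfLE_ι_assoc]
      exact ⟨k ⟨r, hr⟩, by rw [← Scheme.Hom.comp_apply, ← hfac, Scheme.Hom.comp_apply]; exact hr1⟩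
    have : (⟨t, htP⟩ : (P : Scheme.{u})) ∈ closure (Set.range σP) := by
      rw [P.ι.isOpenEmbedding.isInducing.closure_eq_preimage_closure_image, ← Set.range_comp]
      show P.ι ⟨t, htP⟩ ∈ closure (Set.range (P.ι ∘ σP))
      rw [← TopCat.coe_comp, ← Scheme.Hom.comp_base, hσPι]
      exact hcl
    rw [σP.isClosedEmbedding.isClosed_range.closure_eq] at this
    obtain ⟨y, hy⟩ := this
    have hy' : σ y = t := by
      rw [← hσPι, Scheme.Hom.comp_apply, hy]; rfl
    have : y = ⟨x', hx'⟩ := V'.ι.isOpenEmbedding.injective (by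
      rw [← hσa, Scheme.Hom.comp_apply, hy', hat, hσa]; rfl)
    rw [← hy', ← Scheme.Hom.comp_apply, hσb, this]
  -- the point over `f x'`
  have hz0 : g ⟨x', hx'⟩ ∈ closure (Set.range s) := by
    let D : (V' : Scheme.{u}).Opens := V'.ι ⁻¹ᵁ (f ⁻¹ᵁ U)
    have hD : Dense (D : Set ↥(V' : Scheme.{u})) :=
      (hU.preimage f.isOpenMap).preimage V'.ι.isOpenEmbedding.isOpenMap
    refine map_mem_closure g.continuous (hD ⟨x', hx'⟩) fun y hy => ?_
    let y' : ↥((f ⁻¹ᵁ U ⊓ V' : X'.Opens) : Scheme.{u}) := ⟨y.1, hy, y.2⟩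
    have e : X'.homOfLE (inf_le_right : f ⁻¹ᵁ U ⊓ V' ≤ V') ≫ g =
        X'.homOfLE (inf_le_left : f ⁻¹ᵁ U ⊓ V' ≤ f ⁻¹ᵁ U) ≫ (f ∣_ U) ≫ s := by
      apply pullback.hom_ext
      · simp only [Category.assoc, g, s, pullback.lift_fst, morphismRestrict_ι, Scheme.homOfLE_ι_assoc]
      · simp only [Category.assoc, g, s, pullback.lift_snd]
        exact hag
    have hy'' : X'.homOfLE (inf_le_right : f ⁻¹ᵁ U ⊓ V' ≤ V') y' = y := V'.ι.isOpenEmbedding.injective (by
      rw [← Scheme.Hom.comp_apply, Scheme.homOfLE_ι]; rfl)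
    rw [← hy'', ← Scheme.Hom.comp_apply, e, ← Category.assoc, Scheme.Hom.comp_apply]
    exact ⟨_, rfl⟩
  have hqz : q (g ⟨x', hx'⟩) = f x' := by
    rw [← Scheme.Hom.comp_apply, pullback.lift_fst]; rfl
  refine extends_of_isolated pX pY hX U hU h hh.symm (f x') hx (g ⟨x', hx'⟩) hqz hz0 ⊤
    (Set.Subset.antisymm ?_ (Set.singleton_subset_iff.2 ⟨⟨trivial, hz0⟩, hqz⟩))
  rintro w ⟨⟨-, hw⟩, hwx⟩
  obtain ⟨t, ht1, ht2⟩ := Scheme.Pullback.exists_preimage_pullback (f := f) (g := q) x' w (Eq.symm hwx)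
  rw [Set.mem_singleton_iff, ← ht2]
  exact key t ht1 (by rw [show b t = w from ht2]; exact hw)

end Groth.Agent.LeadNormalExt
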