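import Mathlib
import Groth.Agent.Lead.NormalExt.Algebra
import Groth.Agent.Topo.QCImage

/-! Extending sections to a normal point: scheme-theoretic part. -/

set_option autoImplicit false
set_option backward.isDefEq.respectTransparency.types false
universe u

open CategoryTheory CategoryTheory.Limits AlgebraicGeometry TopologicalSpace

namespace Groth.Agent.LeadNormalExt

theorem pb_compat {X Y : Scheme.{u}} {W U V : X.Opens} (hU : U ≤ W) (hV : V ≤ W)
    (a : (U : Scheme.{u}) ⟶ Y) (b : (V : Scheme.{u}) ⟶ Y)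
    (h : X.homOfLE (inf_le_left : U ⊓ V ≤ U) ≫ a = X.homOfLE inf_le_right ≫ b) :
    pullback.fst (X.homOfLE hU) (X.homOfLE hV) ≫ a = pullback.snd _ _ ≫ b := by
  have e : pullback.fst (X.homOfLE hU) (X.homOfLE hV) ≫ U.ι = pullback.snd _ _ ≫ V.ι := by
    have := congrArg (· ≫ W.ι) (pullback.condition (f := X.homOfLE hU) (g := X.homOfLE hV))
    simp only [Category.assoc, Scheme.homOfLE_ι] at this
    exact this
  have hr : Set.range (pullback.fst (X.homOfLE hU) (X.homOfLE hV) ≫ U.ι) ⊆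
      Set.range (U ⊓ V : X.Opens).ι := by
    rintro _ ⟨t, rfl⟩
    rw [Scheme.Opens.range_ι]
    refine ⟨((pullback.fst (X.homOfLE hU) (X.homOfLE hV)) t).2, ?_⟩
    rw [e]
    exact ((pullback.snd (X.homOfLE hU) (X.homOfLE hV)) t).2
  let l := IsOpenImmersion.lift (U ⊓ V : X.Opens).ι _ hr
  have hl := IsOpenImmersion.lift_fac (U ⊓ V : X.Opens).ι _ hr
  have h1 : pullback.fst (X.homOfLE hU) (X.homOfLE hV) = l ≫ X.homOfLE inf_le_left :=
    (cancel_mono U.ι).1 (by rw [Category.assoc, Scheme.homOfLE_ι]; exact hl.symm)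
  have h2 : pullback.snd (X.homOfLE hU) (X.homOfLE hV) = l ≫ X.homOfLE inf_le_right :=
    (cancel_mono V.ι).1 (by rw [Category.assoc, Scheme.homOfLE_ι]; exact (hl.trans e).symm)
  rw [h1, h2, Category.assoc, Category.assoc, h]

/-- glue morphisms on two opens -/
theorem glue₂ {X Y : Scheme.{u}} {U V : X.Opens} (a : (U : Scheme.{u}) ⟶ Y) (b : (V : Scheme.{u}) ⟶ Y)
    (h : X.homOfLE (inf_le_left : U ⊓ V ≤ U) ≫ a = X.homOfLE inf_le_right ≫ b) :
    ∃ (W : X.Opens) (hU : U ≤ W) (hV : V ≤ W) (c : (W : Scheme.{u}) ⟶ Y),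
      X.homOfLE hU ≫ c = a ∧ X.homOfLE hV ≫ c = b := by
  let O : ULift.{u} Bool → X.Opens := fun i => bif i.down then U else V
  let 𝒰 := Scheme.Opens.iSupOpenCover O
  let f : ∀ i : ULift.{u} Bool, (O i : Scheme.{u}) ⟶ Y := fun i => match i with
    | ⟨true⟩ => a
    | ⟨false⟩ => b
  have h' : X.homOfLE (inf_le_left : V ⊓ U ≤ V) ≫ b = X.homOfLE inf_le_right ≫ a := by
    have := congrArg (X.homOfLE (inf_comm V U).le ≫ ·) h
    simp only [← Category.assoc, Scheme.homOfLE_homOfLE] at this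
    exact this.symm
  have hf : ∀ i j, pullback.fst (𝒰.f i) (𝒰.f j) ≫ f i = pullback.snd _ _ ≫ f j := by
    rintro ⟨_ | _⟩ ⟨_ | _⟩
    · exact pb_compat (le_iSup O ⟨false⟩) (le_iSup O ⟨false⟩) b b (by congr 1)
    · exact pb_compat (le_iSup O ⟨false⟩) (le_iSup O ⟨true⟩) b a h'
    · exact pb_compat (le_iSup O ⟨true⟩) (le_iSup O ⟨false⟩) a b h
    · exact pb_compat (le_iSup O ⟨true⟩) (le_iSup O ⟨true⟩) a a (by congr 1)
  exact ⟨⨆ i, O i, le_iSup O ⟨true⟩, le_iSup O ⟨false⟩, 𝒰.glueMorphisms f hf,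
    𝒰.ι_glueMorphisms f hf ⟨true⟩, 𝒰.ι_glueMorphisms f hf ⟨false⟩⟩

variable {X Y : Scheme.{u}}

theorem mem_of_closedPoint {T : CommRingCat.{u}} [IsLocalRing T] (m : Spec T ⟶ Y) (V : Y.Opens)
    (h : m (IsLocalRing.closedPoint T) ∈ V) (t : Spec T) : m t ∈ V :=
  ((IsLocalRing.specializes_closedPoint t).map m.continuous).mem_open V.2 h

theorem exists_factor {T : CommRingCat.{u}} [IsLocalRing T] (m : Spec T ⟶ Y) {V : Y.Opens}
    (hV : IsAffineOpen V) (h : m (IsLocalRing.closedPoint T) ∈ V) :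
    ∃ χ : Γ(Y, V) ⟶ T, Spec.map χ ≫ hV.fromSpec = m := by
  refine ⟨Spec.preimage (IsOpenImmersion.lift hV.fromSpec m ?_), ?_⟩
  · rintro _ ⟨t, rfl⟩
    rw [hV.range_fromSpec]
    exact mem_of_closedPoint m V h t
  · rw [Spec.map_preimage, IsOpenImmersion.lift_fac]

theorem comp_ring {T : CommRingCat.{u}} (q : Y ⟶ X) {W : X.Opens} (hW : IsAffineOpen W) {V : Y.Opens}
    (hV : IsAffineOpen V) (e : V ≤ q ⁻¹ᵁ W) (χ : Γ(Y, V) ⟶ T) (μ : Γ(X, W) ⟶ T) :
    Spec.map χ ≫ hV.fromSpec ≫ q = Spec.map μ ≫ hW.fromSpec ↔ q.appLE W V e ≫ χ = μ := by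
  rw [← IsAffineOpen.SpecMap_appLE_fromSpec q hW hV e, ← Category.assoc, ← Spec.map_comp,
    cancel_mono]
  exact ⟨fun h => Spec.map_injective h, fun h => by rw [h]⟩

variable (x : X)

theorem exists_integral_nhd [IsLocallyNoetherian X] [IsDomain (X.presheaf.stalk x)] :
    ∃ (W : X.Opens), x ∈ W ∧ IsAffineOpen W ∧ IsIntegral W.toScheme := by
  obtain ⟨W, hxW, hW, hinj⟩ := X.exists_germ_injective x
  haveI : IsDomain Γ(X, W) := hinj.isDomain (X.presheaf.germ W x hxW).hom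
  haveI : IsDomain Γ(W.toScheme, ⊤) := W.topIso.commRingCatIsoToRingEquiv.toMulEquiv.isDomain _
  haveI : IsAffine W.toScheme := hW
  haveI : Nonempty W.toScheme := ⟨⟨x, hxW⟩⟩
  exact ⟨W, hxW, hW, isIntegral_of_isAffine_of_isDomain _⟩

theorem mem_range_fromSpecStalk {y : X} (h : y ⤳ x) : ∃ P, X.fromSpecStalk x P = y := by
  have : y ∈ Set.range (X.fromSpecStalk x) := by rw [Scheme.range_fromSpecStalk]; exact h
  exact this

theorem bot_specializes (R : Type u) [CommRing R] [IsDomain R] (P : PrimeSpectrum R) :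
    (⟨⊥, Ideal.isPrime_bot⟩ : PrimeSpectrum R) ⤳ P :=
  (PrimeSpectrum.le_iff_specializes _ _).1 bot_le

variable [IsLocallyNoetherian X] [IsDomain (X.presheaf.stalk x)]

/-- the generic point through `x` -/
noncomputable def gen : X :=
  X.fromSpecStalk x (⟨⊥, Ideal.isPrime_bot⟩ : PrimeSpectrum (X.presheaf.stalk x))

theorem gen_specializes {y : X} (h : y ⤳ x) : gen x ⤳ y := by
  obtain ⟨P, rfl⟩ := mem_range_fromSpecStalk x h
  exact (bot_specializes _ P).map (X.fromSpecStalk x).continuous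

theorem gen_mem {U : X.Opens} (hU : Dense (U : Set X)) : gen x ∈ U := by
  obtain ⟨W, hxW, hW, hint⟩ := exists_integral_nhd x
  obtain ⟨y, hyU, hyW⟩ : ∃ y, y ∈ (U : Set X) ∧ y ∈ W := by
    obtain ⟨y, h1, h2⟩ := hU.inter_open_nonempty W W.2 ⟨x, hxW⟩
    exact ⟨y, h2, h1⟩
  let η : W.toScheme := genericPoint W.toScheme
  have hη : ∀ z : W.toScheme, W.ι η ⤳ W.ι z := fun z =>
    (genericPoint_specializes z).map W.ι.continuous
  have h1 : W.ι η ∈ U := (hη ⟨y, hyW⟩).mem_open U.2 hyU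
  exact (gen_specializes x (hη ⟨x, hxW⟩)).mem_open U.2 h1

theorem not_isField {U : X.Opens} (hU : Dense (U : Set X)) (hxU : x ∉ U) :
    ¬ IsField (X.presheaf.stalk x) := by
  intro hf
  apply hxU
  have h := gen_mem x hU
  have e : (⟨⊥, Ideal.isPrime_bot⟩ : PrimeSpectrum (X.presheaf.stalk x)) =
      IsLocalRing.closedPoint (X.presheaf.stalk x) :=
    PrimeSpectrum.ext (IsLocalRing.isField_iff_maximalIdeal_eq.mp hf).symm
  rw [gen, e, Scheme.fromSpecStalk_closedPoint] at h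
  exact h

/-- the generic `K`-point -/
noncomputable def jK : Spec (.of (FractionRing (X.presheaf.stalk x))) ⟶ X :=
  Spec.map (CommRingCat.ofHom (algebraMap (X.presheaf.stalk x) (FractionRing (X.presheaf.stalk x)))) ≫
    X.fromSpecStalk x

theorem jK_apply (t : Spec (.of (FractionRing (X.presheaf.stalk x)))) : jK x t = gen x := by
  show X.fromSpecStalk x _ = X.fromSpecStalk x _
  congr 1
  refine PrimeSpectrum.ext ?_
  have ht : (t : PrimeSpectrum (FractionRing (X.presheaf.stalk x))).asIdeal = ⊥ :=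
    Ideal.eq_bot_of_prime _
  show Ideal.comap (algebraMap _ _) (t : PrimeSpectrum (FractionRing (X.presheaf.stalk x))).asIdeal = ⊥
  rw [ht, ← RingHom.ker_eq_comap_bot]
  exact (RingHom.injective_iff_ker_eq_bot _).1 (IsFractionRing.injective _ _)

variable {x}

/-- spreading out a stalk section compatible with `h` -/
theorem extend (q : Y ⟶ X) [LocallyOfFiniteType q] {U : X.Opens} (h : (U : Scheme.{u}) ⟶ Y)
    (hh : h ≫ q = U.ι) (f : Spec (X.presheaf.stalk x) ⟶ Y) (hf : f ≫ q = X.fromSpecStalk x)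
    (gK : Spec (.of (FractionRing (X.presheaf.stalk x))) ⟶ (U : Scheme.{u})) (hgK : gK ≫ U.ι = jK x)
    (hgen : Spec.map (CommRingCat.ofHom (algebraMap (X.presheaf.stalk x)
      (FractionRing (X.presheaf.stalk x)))) ≫ f = gK ≫ h)
    (hsep : ∀ (P : Spec (X.presheaf.stalk x)) (hP : X.fromSpecStalk x P ∈ U),
      ∃ V : Y.Opens, h ⟨_, hP⟩ ∈ V ∧ f P ∈ V ∧ IsSeparated (V.ι ≫ q)) :
    ∃ (U' : X.Opens) (hUU' : U ≤ U') (hxU' : x ∈ U') (h' : (U' : Scheme.{u}) ⟶ Y),
        h' ≫ q = U'.ι ∧ X.homOfLE hUU' ≫ h' = h ∧ h' ⟨x, hxU'⟩ = f (IsLocalRing.closedPoint _) := by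
  classical
  obtain ⟨W, hxW, hW, hint⟩ := exists_integral_nhd x
  obtain ⟨U₁, hxU₁, f₁, hf₁, hf₁q⟩ := spread_out_of_isGermInjective' (𝟙 X) q f (x := x)
    (by rw [hf, Category.comp_id])
  rw [Category.comp_id] at hf₁q
  let O : X.Opens := U ⊓ U₁ ⊓ W
  let a : (O : Scheme.{u}) ⟶ Y := X.homOfLE (inf_le_left.trans inf_le_left) ≫ h
  let b : (O : Scheme.{u}) ⟶ Y := X.homOfLE (inf_le_left.trans inf_le_right) ≫ f₁
  have haq : a ≫ q = O.ι := by simp [a, hh]
  have hbq : b ≫ q = O.ι := by simp [b, hf₁q]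
  -- every generization of `x` inside `U` has a neighbourhood on which `a = b`
  have key : ∀ z : (O : Scheme.{u}), O.ι z ⤳ x →
      ∃ M : (O : Scheme.{u}).Opens, z ∈ M ∧ M.ι ≫ a = M.ι ≫ b := by
    intro z hz
    obtain ⟨P, hP⟩ := mem_range_fromSpecStalk x hz
    have hzU : O.ι z ∈ U := z.2.1.1
    obtain ⟨V, hV1, hV2, hV3⟩ := hsep P (hP ▸ hzU)
    have haz : a z ∈ V := by
      have : (X.homOfLE (inf_le_left.trans inf_le_left : O ≤ U) z : (U : Scheme.{u})) = ⟨_, hP ▸ hzU⟩ :=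
        Subtype.ext (by simpa using hP.symm)
      show h (X.homOfLE _ z) ∈ V
      rw [this]; exact hV1
    have hbz : b z ∈ V := by
      have : (X.homOfLE (inf_le_left.trans inf_le_right : O ≤ U₁) z : (U₁ : Scheme.{u})) =
          U₁.fromSpecStalkOfMem x hxU₁ P := by
        apply U₁.ι.isOpenEmbedding.injective
        rw [← Scheme.Hom.comp_apply, ← Scheme.Hom.comp_apply, Scheme.homOfLE_ι,
          Scheme.Opens.fromSpecStalkOfMem_ι, hP]
      show f₁ (X.homOfLE _ z) ∈ V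
      rw [this, ← Scheme.Hom.comp_apply, ← hf₁]; exact hV2
    let M : (O : Scheme.{u}).Opens := a ⁻¹ᵁ V ⊓ b ⁻¹ᵁ V
    refine ⟨M, ⟨haz, hbz⟩, ?_⟩
    haveI : Nonempty W.toScheme := ⟨⟨x, hxW⟩⟩
    haveI : Nonempty (M : Scheme.{u}) := ⟨⟨z, haz, hbz⟩⟩
    let e : (M : Scheme.{u}) ⟶ W := M.ι ≫ X.homOfLE (inf_le_right : O ≤ W)
    haveI : IsIntegral (M : Scheme.{u}) := isIntegral_of_isOpenImmersion e
    let a' := IsOpenImmersion.lift V.ι (M.ι ≫ a) (by
      rintro _ ⟨t, rfl⟩; rw [Scheme.Opens.range_ι]; exact t.2.1)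
    let b' := IsOpenImmersion.lift V.ι (M.ι ≫ b) (by
      rintro _ ⟨t, rfl⟩; rw [Scheme.Opens.range_ι]; exact t.2.2)
    have ha' : a' ≫ V.ι = M.ι ≫ a := IsOpenImmersion.lift_fac _ _ _
    have hb' : b' ≫ V.ι = M.ι ≫ b := IsOpenImmersion.lift_fac _ _ _
    -- the generic point of `M`
    have hκ : Set.range (jK x) ⊆ Set.range (M.ι ≫ O.ι) := by
      rintro _ ⟨t, rfl⟩
      rw [jK_apply]
      exact ((gen_specializes x hz).mem_open (M.ι ≫ O.ι).opensRange.2 ⟨⟨z, haz, hbz⟩, rfl⟩)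
    let κ := IsOpenImmersion.lift (M.ι ≫ O.ι) (jK x) hκ
    have hκ' : κ ≫ M.ι ≫ O.ι = jK x := IsOpenImmersion.lift_fac _ _ _
    haveI : IsDominant κ := by
      refine ⟨?_⟩
      let t₀ : Spec (.of (FractionRing (X.presheaf.stalk x))) := IsLocalRing.closedPoint (FractionRing (X.presheaf.stalk x))
      have hgen' : κ t₀ = genericPoint (M : Scheme.{u}) := by
        apply (M.ι ≫ O.ι).isOpenEmbedding.injective
        have e1 : (M.ι ≫ O.ι) (κ t₀) = gen x := by
          rw [← Scheme.Hom.comp_apply, hκ', jK_apply]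
        rw [e1]
        have h1 : (M.ι ≫ O.ι) (genericPoint (M : Scheme.{u})) ⤳ gen x := by
          rw [← e1]; exact (genericPoint_specializes _).map (M.ι ≫ O.ι).continuous
        have h2 : (M.ι ≫ O.ι) (genericPoint (M : Scheme.{u})) ⤳ x :=
          ((genericPoint_specializes (α := (M : Scheme.{u})) ⟨z, haz, hbz⟩).map (M.ι ≫ O.ι).continuous).trans hz
        exact ((gen_specializes x h2).antisymm h1).eq
      intro t
      have hsp : κ t₀ ⤳ t := hgen' ▸ genericPoint_specializes (α := (M : Scheme.{u})) t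
      exact closure_mono (Set.singleton_subset_iff.2 (Set.mem_range_self t₀)) (specializes_iff_mem_closure.1 hsp)
    have hab : a' = b' := by
      refine ext_of_isDominant_of_isSeparated (V.ι ≫ q) ?_ κ ?_
      · rw [← Category.assoc, ← Category.assoc, ha', hb']
        simp [a, b, hh, hf₁q]
      · rw [← cancel_mono V.ι, Category.assoc, Category.assoc, ha', hb']
        have hκU : κ ≫ M.ι ≫ X.homOfLE (inf_le_left.trans inf_le_left : O ≤ U) = gK := by
          rw [← cancel_mono U.ι, hgK]; simp [hκ']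
        have hκU₁ : κ ≫ M.ι ≫ X.homOfLE (inf_le_left.trans inf_le_right : O ≤ U₁) =
            Spec.map (CommRingCat.ofHom (algebraMap (X.presheaf.stalk x)
              (FractionRing (X.presheaf.stalk x)))) ≫ U₁.fromSpecStalkOfMem x hxU₁ := by
          rw [← cancel_mono U₁.ι]; simp [hκ', jK]
        calc κ ≫ M.ι ≫ a = gK ≫ h := by rw [← hκU]; simp [a]
          _ = _ := hgen.symm
          _ = κ ≫ M.ι ≫ b := by
            rw [hf₁, ← Category.assoc, ← hκU₁]; simp [b]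
    rw [← ha', ← hb', hab]
  -- the bad locus avoids `x` in its closure
  let E : (O : Scheme.{u}).Opens := ⨆ M : {M : (O : Scheme.{u}).Opens // M.ι ≫ a = M.ι ≫ b}, M.1
  let C : Closeds (O : Scheme.{u}) := ⟨(E : Set (O : Scheme.{u}))ᶜ, E.2.isClosed_compl⟩
  let I := Scheme.IdealSheafData.vanishingIdeal C
  let m : I.subscheme ⟶ X := I.subschemeι ≫ O.ι
  have hxm : x ∉ closure (Set.range m) := by
    intro hx
    obtain ⟨c, hc⟩ := Topo.QCImage.exists_specializes_of_mem_closure_range m hx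
    have hcC : I.subschemeι c ∈ (C : Set (O : Scheme.{u})) := by
      have : I.subschemeι c ∈ Set.range I.subschemeι := ⟨c, rfl⟩
      rwa [Scheme.IdealSheafData.range_subschemeι, Scheme.IdealSheafData.coe_support_vanishingIdeal] at this
    obtain ⟨M, hzM, hM⟩ := key (I.subschemeι c) hc
    exact hcC (Opens.mem_iSup.2 ⟨⟨M, hM⟩, hzM⟩)
  let U₂ : X.Opens := (U₁ ⊓ W) ⊓ ⟨(closure (Set.range m))ᶜ, isClosed_closure.isOpen_compl⟩
  have hxU₂ : x ∈ U₂ := ⟨⟨hxU₁, hxW⟩, hxm⟩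
  have hagree : X.homOfLE (inf_le_left : U ⊓ U₂ ≤ U) ≫ h =
      X.homOfLE inf_le_right ≫ (X.homOfLE (inf_le_left.trans inf_le_left : U₂ ≤ U₁) ≫ f₁) := by
    have hO : U ⊓ U₂ ≤ O := fun z hz => ⟨⟨hz.1, hz.2.1.1⟩, hz.2.1.2⟩
    have e1 : X.homOfLE (inf_le_left : U ⊓ U₂ ≤ U) ≫ h = X.homOfLE hO ≫ a := by
      simp [a]
    have e2 : X.homOfLE inf_le_right ≫ (X.homOfLE (inf_le_left.trans inf_le_left : U₂ ≤ U₁) ≫ f₁) =
        X.homOfLE hO ≫ b := by
      simp [b]
    rw [e1, e2]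
    refine Scheme.hom_ext_of_forall _ _ fun z => ?_
    have hzE : X.homOfLE hO z ∈ E := by
      by_contra hne
      have hzC : X.homOfLE hO z ∈ Set.range I.subschemeι := by
        rw [Scheme.IdealSheafData.range_subschemeι, Scheme.IdealSheafData.coe_support_vanishingIdeal]
        exact hne
      obtain ⟨c, hc⟩ := hzC
      refine z.2.2.2 (subset_closure ⟨c, ?_⟩)
      show O.ι (I.subschemeι c) = (U ⊓ U₂).ι z
      rw [hc, ← Scheme.Hom.comp_apply, Scheme.homOfLE_ι]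
    obtain ⟨⟨M, hM⟩, hzM⟩ := Opens.mem_iSup.1 hzE
    refine ⟨X.homOfLE hO ⁻¹ᵁ M, hzM, ?_⟩
    rw [← morphismRestrict_ι_assoc, hM, morphismRestrict_ι_assoc]
  obtain ⟨U', hUU', hU₂, h', h'1, h'2⟩ := glue₂ h _ hagree
  refine ⟨U ⊔ U₂, le_sup_left, Opens.mem_sup.2 (Or.inr hxU₂),
    X.homOfLE (sup_le hUU' hU₂) ≫ h', ?_, ?_, ?_⟩
  · refine Scheme.hom_ext_of_forall _ _ fun t => ?_
    rcases Opens.mem_sup.1 t.2 with ht | ht
    · refine ⟨(U ⊔ U₂).ι ⁻¹ᵁ U, ht, ?_⟩
      have e : ((U ⊔ U₂).ι ⁻¹ᵁ U).ι = ((U ⊔ U₂).ι ∣_ U) ≫ X.homOfLE le_sup_left := by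
        rw [← cancel_mono (U ⊔ U₂).ι, Category.assoc, Scheme.homOfLE_ι, morphismRestrict_ι]
      rw [e]
      simp only [Category.assoc]
      congr 1
      rw [← Category.assoc (X.homOfLE le_sup_left), Scheme.homOfLE_homOfLE, ← Category.assoc, h'1, hh,
        Scheme.homOfLE_ι]
    · refine ⟨(U ⊔ U₂).ι ⁻¹ᵁ U₂, ht, ?_⟩
      have e : ((U ⊔ U₂).ι ⁻¹ᵁ U₂).ι = ((U ⊔ U₂).ι ∣_ U₂) ≫ X.homOfLE le_sup_right := by
        rw [← cancel_mono (U ⊔ U₂).ι, Category.assoc, Scheme.homOfLE_ι, morphismRestrict_ι]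
      rw [e]
      simp only [Category.assoc]
      congr 1
      rw [← Category.assoc (X.homOfLE le_sup_right), Scheme.homOfLE_homOfLE, ← Category.assoc, h'2,
        Category.assoc, hf₁q, Scheme.homOfLE_ι, Scheme.homOfLE_ι]
  · rw [← Category.assoc, Scheme.homOfLE_homOfLE]; exact h'1
  · have e1 : (⟨x, Opens.mem_sup.2 (Or.inr hxU₂)⟩ : ((U ⊔ U₂ : X.Opens) : Scheme.{u})) =
        X.homOfLE le_sup_right (⟨x, hxU₂⟩ : (U₂ : Scheme.{u})) := Subtype.ext (by simp)
    rw [e1, ← Scheme.Hom.comp_apply, ← Category.assoc, Scheme.homOfLE_homOfLE, h'2, Scheme.Hom.comp_apply,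
      hf₁, Scheme.Hom.comp_apply]
    congr 1
    apply U₁.ι.isOpenEmbedding.injective
    have hb : U₁.ι (U₁.fromSpecStalkOfMem x hxU₁ (IsLocalRing.closedPoint (X.presheaf.stalk x))) = x := by
      have := congrArg (fun g : Spec (X.presheaf.stalk x) ⟶ X => g (IsLocalRing.closedPoint (X.presheaf.stalk x)))
        (Scheme.Opens.fromSpecStalkOfMem_ι U₁ x hxU₁)
      exact this.trans Scheme.fromSpecStalk_closedPoint
    refine Eq.trans ?_ hb.symm
    have ha := congrArg (fun g : (U₂ : Scheme.{u}) ⟶ X => g ⟨x, hxU₂⟩)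
      (Scheme.homOfLE_ι X (inf_le_left.trans inf_le_left : U₂ ≤ U₁))
    exact ha

/-- test data from a map to a DVR -/
theorem exists_ub {U : X.Opens} {R : Type u} [CommRing R] [IsDomain R] [IsDiscreteValuationRing R]
    (ψ : X.presheaf.stalk x →+* R) [IsLocalHom ψ]
    (hker : X.fromSpecStalk x (⟨RingHom.ker ψ, RingHom.ker_isPrime ψ⟩ : PrimeSpectrum (X.presheaf.stalk x)) ∈ U) :
    (Spec.map (CommRingCat.ofHom ψ) ≫ X.fromSpecStalk x) (IsLocalRing.closedPoint R) = x ∧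
    ∃ ub : Spec (CommRingCat.of (FractionRing R)) ⟶ (U : Scheme.{u}),
      ub ≫ U.ι = Spec.map (CommRingCat.ofHom (algebraMap R (FractionRing R))) ≫
        Spec.map (CommRingCat.ofHom ψ) ≫ X.fromSpecStalk x ∧
      ∀ t, U.ι (ub t) = X.fromSpecStalk x
        (⟨RingHom.ker ψ, RingHom.ker_isPrime ψ⟩ : PrimeSpectrum (X.presheaf.stalk x)) := by
  have hc : (Spec.map (CommRingCat.ofHom ψ) ≫ X.fromSpecStalk x) (IsLocalRing.closedPoint R) = x := by
    rw [Scheme.Hom.comp_apply]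
    have : Spec.map (CommRingCat.ofHom ψ) (IsLocalRing.closedPoint R) =
        IsLocalRing.closedPoint (X.presheaf.stalk x) := IsLocalRing.comap_closedPoint ψ
    rw [this, Scheme.fromSpecStalk_closedPoint]
  have hpt : ∀ t, (Spec.map (CommRingCat.ofHom (algebraMap R (FractionRing R))) ≫
        Spec.map (CommRingCat.ofHom ψ) ≫ X.fromSpecStalk x) t = X.fromSpecStalk x
        (⟨RingHom.ker ψ, RingHom.ker_isPrime ψ⟩ : PrimeSpectrum (X.presheaf.stalk x)) := by
    intro t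
    rw [Scheme.Hom.comp_apply, Scheme.Hom.comp_apply]
    congr 1
    refine PrimeSpectrum.ext ?_
    show Ideal.comap ψ (Ideal.comap (algebraMap R _) (t : PrimeSpectrum (FractionRing R)).asIdeal) = RingHom.ker ψ
    rw [Ideal.eq_bot_of_prime (t : PrimeSpectrum (FractionRing R)).asIdeal, ← RingHom.ker_eq_comap_bot,
      (RingHom.injective_iff_ker_eq_bot _).1 (IsFractionRing.injective R _), RingHom.ker_eq_comap_bot]
  refine ⟨hc, IsOpenImmersion.lift U.ι _ ?_, IsOpenImmersion.lift_fac _ _ _, fun t => ?_⟩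
  · rintro _ ⟨t, rfl⟩
    rw [Scheme.Opens.range_ι, hpt]; exact hker
  · rw [← Scheme.Hom.comp_apply, IsOpenImmersion.lift_fac, hpt]

theorem ker_eq_bot_point {R : Type u} [CommRing R] [IsDomain R] (ψ : X.presheaf.stalk x →+* R)
    (hψ : Function.Injective ψ) :
    X.fromSpecStalk x (⟨RingHom.ker ψ, RingHom.ker_isPrime ψ⟩ : PrimeSpectrum (X.presheaf.stalk x)) = gen x := by
  show _ = X.fromSpecStalk x _
  congr 1
  exact PrimeSpectrum.ext ((RingHom.injective_iff_ker_eq_bot ψ).1 hψ)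

/-- the generic data -/
theorem exists_gK {U : X.Opens} (hU : Dense (U : Set X)) :
    ∃ gK : Spec (.of (FractionRing (X.presheaf.stalk x))) ⟶ (U : Scheme.{u}), gK ≫ U.ι = jK x :=
  ⟨IsOpenImmersion.lift U.ι (jK x) (by
    rintro _ ⟨t, rfl⟩; rw [Scheme.Opens.range_ι, jK_apply]; exact gen_mem x hU),
    IsOpenImmersion.lift_fac _ _ _⟩

/-- a section over the stalk from a ring map landing in the stalk -/
theorem exists_stalk_section (q : Y ⟶ X) {W : X.Opens} (hW : IsAffineOpen W) (hxW : x ∈ W)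
    {V : Y.Opens} (hV : IsAffineOpen V) (e : V ≤ q ⁻¹ᵁ W)
    (χ : Γ(Y, V) ⟶ CommRingCat.of (FractionRing (X.presheaf.stalk x)))
    (hχ : Spec.map χ ≫ hV.fromSpec ≫ q = jK x)
    (hint : ∀ c, χ c ∈ Set.range (algebraMap (X.presheaf.stalk x) (FractionRing (X.presheaf.stalk x)))) :
    ∃ χA : Γ(Y, V) ⟶ X.presheaf.stalk x,
      χA ≫ CommRingCat.ofHom (algebraMap (X.presheaf.stalk x) (FractionRing (X.presheaf.stalk x))) = χ ∧
      Spec.map χA ≫ hV.fromSpec ≫ q = X.fromSpecStalk x := by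
  let K := FractionRing (X.presheaf.stalk x)
  have hinj : Function.Injective (algebraMap (X.presheaf.stalk x) K) := IsFractionRing.injective _ _
  choose g hg using hint
  let χA : Γ(Y, V) →+* X.presheaf.stalk x :=
    { toFun := g
      map_one' := hinj (by rw [hg, map_one, map_one])
      map_mul' := fun a b => hinj (by rw [hg, map_mul, map_mul, hg, hg])
      map_zero' := hinj (by rw [hg, map_zero, map_zero])
      map_add' := fun a b => hinj (by rw [hg, map_add, map_add, hg, hg]) }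
  refine ⟨CommRingCat.ofHom χA, by ext c; exact hg c, ?_⟩
  have hj : X.fromSpecStalk x = Spec.map (X.presheaf.germ W x hxW) ≫ hW.fromSpec :=
    (hW.fromSpecStalk_eq_fromSpecStalk hxW).symm
  rw [hj, comp_ring q hW hV e]
  have h2 : q.appLE W V e ≫ χ = X.presheaf.germ W x hxW ≫ CommRingCat.ofHom (algebraMap (X.presheaf.stalk x) K) := by
    rw [← comp_ring q hW hV e, hχ, jK, hj, Spec.map_comp, Category.assoc]; rfl
  ext c
  exact hinj ((hg _).trans (congrArg (fun φ => φ.hom c) h2 :))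

end Groth.Agent.LeadNormalExt
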